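import Groth.Agent.Lib.PicValProper20.Pair
import Groth.Agent.Lib.ValDiv15.Space
import Groth.Agent.Lib.CurveTwist13.PullIdeal

/-!
# Extension of invertible modules of generic fibres of smooth schemes over valuation rings
-/

set_option autoImplicit false
set_option linter.style.haveILetI false
set_option backward.isDefEq.respectTransparency.types false

universe u

open CategoryTheory CategoryTheory.Limits AlgebraicGeometry Opposite
open Groth.Agent.SchImage14

namespace Groth.Agent.PicValProper20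

attribute [local instance] M2.law

variable {R : Type u} [CommRing R] [IsDomain R] [ValuationRing R] {K : Type u} [Field K] [Algebra R K]
  [IsFractionRing R K] {Y YK : Scheme.{u}} (g : Y ⟶ Spec (CommRingCat.of R)) [Smooth g]
  {pr : YK ⟶ Y} {fK : YK ⟶ Spec (CommRingCat.of K)}
  (sq : IsPullback pr fK g (Spec.map (CommRingCat.ofHom (algebraMap R K))))

include sq in
/-- The closure of an effective Cartier divisor of the generic fibre is effective Cartier and restricts to it. -/
theorem isEffCartierIdeal_closure {I : YK.IdealSheafData} (hI : BlowUp.IsEffCartierIdeal I) :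
    BlowUp.IsEffCartierIdeal (I.subschemeι ≫ pr).ker ∧ (I.subschemeι ≫ pr).ker.comap pr = I := by
  classical
  haveI : IsAffineHom pr := MorphismProperty.of_isPullback (P := @IsAffineHom) sq.flip inferInstance
  haveI : QuasiCompact (I.subschemeι ≫ pr) := inferInstance
  have hcov : ∀ v : Y, ∃ W : Y.affineOpens, v ∈ W.1 ∧ IsDomain Γ(Y, W.1) := by
    intro v
    obtain ⟨W, hW, hvW, -⟩ := exists_isAffineOpen_mem_and_subset (X := Y) (x := v) (U := ⊤) trivial
    letI : Algebra R Γ(Y, W) :=
      ((Scheme.ΓSpecIso (CommRingCat.of R)).inv ≫ g.appLE ⊤ W le_top).hom.toAlgebra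
    haveI : Algebra.Smooth R Γ(Y, W) := by
      have h1 := g.smooth_appLE (isAffineOpen_top _) hW (le_top : W ≤ g ⁻¹ᵁ ⊤)
      have h2 : ((g.appLE ⊤ W le_top).hom.comp
          (Scheme.ΓSpecIso (CommRingCat.of R)).symm.commRingCatIsoToRingEquiv.toRingHom).Smooth :=
        RingHom.Smooth.respectsIso.2 _ _ h1
      refine RingHom.smooth_algebraMap.1 ?_
      convert h2 using 1
      rw [RingHom.algebraMap_toAlgebra]
      rfl
    obtain ⟨e, he, hed⟩ := ValDiv15.exists_isDomain_away R (hW.primeIdealOf ⟨v, hvW⟩).asIdeal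
    haveI := hW.isLocalization_basicOpen e
    refine ⟨⟨Y.basicOpen e, hW.basicOpen e⟩, ?_, ?_⟩
    · have h2 : hW.fromSpec (hW.primeIdealOf ⟨v, hvW⟩) ∈ Y.basicOpen e :=
        (hW.fromSpec_preimage_basicOpen e).ge he
      rwa [hW.fromSpec_primeIdealOf] at h2
    · exact (IsLocalization.algEquiv (Submonoid.powers e) (Localization.Away e)
        Γ(Y, Y.basicOpen e)).toRingEquiv.symm.toMulEquiv.isDomain _
  choose W hvW hWd using hcov
  set J := (I.subschemeι ≫ pr).ker with hJ
  have hpiece : ∀ v : Y, BlowUp.IsEffCartierIdeal (J.comap (W v).1.ι) ∧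
      (J.comap pr).comap (pr ⁻¹ᵁ (W v).1).ι = I.comap (pr ⁻¹ᵁ (W v).1).ι := by
    intro v
    let U := (W v).1
    let UK := pr ⁻¹ᵁ U
    haveI : IsAffine U.toScheme := (W v).2
    haveI : IsDomain Γ(U.toScheme, ⊤) := by
      haveI := hWd v
      exact U.topIso.commRingCatIsoToRingEquiv.toMulEquiv.isDomain _
    have sqO : IsPullback (pr ∣_ U) UK.ι U.ι pr := isPullback_morphismRestrict pr U
    have sqU : IsPullback (pr ∣_ U) (UK.ι ≫ fK) (U.ι ≫ g)
        (Spec.map (CommRingCat.ofHom (algebraMap R K))) := sqO.paste_vert sq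
    have hIU : BlowUp.IsEffCartierIdeal (I.comap UK.ι) := AlgSpCartier.isEffCartierIdeal_comap_of_flat UK.ι hI
    haveI : Smooth (U.ι ≫ g) := inferInstance
    obtain ⟨h1, h2⟩ := ValDiv15.isEffCartierIdeal_closure (U.ι ≫ g) sqU hIU
    have hkey : J.comap U.ι = ((I.comap UK.ι).subschemeι ≫ (pr ∣_ U)).ker := by
      rw [hJ]
      refine (ker_comap_of_flat (IsPullback.of_hasPullback (I.subschemeι ≫ pr) U.ι)).trans ?_
      have s1 := (IsPullback.of_hasPullback UK.ι I.subschemeι).flip.paste_vert sqO.flip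
      refine (AlgSpCartier.ker_eq_of_iso ((IsPullback.of_hasPullback _ _).isoIsPullback _ _ s1) _ _
          (IsPullback.isoIsPullback_hom_snd _ _ _ _)).trans ?_
      exact AlgSpCartier.ker_eq_of_iso (I.comapIso UK.ι).symm _ _ (by
          rw [Iso.symm_hom, ← Category.assoc, Scheme.IdealSheafData.comapIso_inv_subschemeι])
    refine ⟨hkey ▸ h1, ?_⟩
    rw [← Scheme.IdealSheafData.comap_comp, ← sqO.w, Scheme.IdealSheafData.comap_comp, hkey]
    exact h2
  refine ⟨EffCartier.isEffCartierIdeal_iff.mpr fun v => AlgSpCartier.exists_isEqn_of_comap (W v).1.ι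
    (W v).1.ι.isOpenMap (hpiece v).1 ⟨v, hvW v⟩, ?_⟩
  apply le_antisymm <;>
    refine ValDiv15.le_of_comap_flat_cover (fun v : Y => (pr ⁻¹ᵁ (W v).1).ι) (fun v => inferInstance)
      (fun x => ⟨pr x, ⟨x, hvW (pr x)⟩, rfl⟩) fun v => ?_
  · exact (hpiece v).2.le
  · exact (hpiece v).2.ge

include sq in
/-- An invertible class on the integral generic fibre of a smooth scheme over a valuation ring extends. -/
theorem exists_lift [IsIntegral YK] [IsSeparated fK] [QuasiCompact fK] (c : PicF.Cl YK)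
    (hc : PicF.IsInvertibleCl c) : ∃ c' : PicF.Cl Y, PicF.IsInvertibleCl c' ∧ PicF.pullCl pr c' = c := by
  obtain ⟨L, rfl, hL⟩ := hc
  haveI : Smooth fK := MorphismProperty.of_isPullback sq (inferInstanceAs (Smooth g))
  obtain ⟨I, D, hI, hD, n, heq⟩ := exists_pair fK L hL
  obtain ⟨hI', hIe⟩ := isEffCartierIdeal_closure g sq hI
  obtain ⟨hD', hDe⟩ := isEffCartierIdeal_closure g sq hD
  let cD := PicGrp.cls (ClSub.idealMod _) (M2.isInvertible_idealMod _ hD')
  let cI := PicGrp.cls (ClSub.idealMod _) (M2.isInvertible_idealMod _ hI')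
  have key : ∀ {A : YK.IdealSheafData} (hA : BlowUp.IsEffCartierIdeal A) {B : Y.IdealSheafData}
      (hB : BlowUp.IsEffCartierIdeal B), B.comap pr = A →
      PicGrp.pullHom pr (M2.pullMul pr) (PicGrp.cls (ClSub.idealMod B) (M2.isInvertible_idealMod B hB)) =
        PicGrp.cls (ClSub.idealMod A) (M2.isInvertible_idealMod A hA) := by
    intro A hA B hB e
    subst e
    rw [PicGrp.pullHom_cls]
    exact (PicGrp.cls_eq_cls_iff _ _).2 (CurveTwist13.nonempty_pullback_idealMod_iso pr hB hA)
  refine ⟨(cD ^ n * cI⁻¹ : PicLoc.PicSet Y).1, (cD ^ n * cI⁻¹ : PicLoc.PicSet Y).2, ?_⟩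
  rw [← PicGrp.pullHom_apply_val pr (M2.pullMul pr), map_mul, map_pow, map_inv, key hD hD' hDe,
    key hI hI' hIe, ← heq]
  rfl

end Groth.Agent.PicValProper20
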