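import Groth.Agent.Lib.PicValProper20.Closure
import Groth.Agent.Lib.GrpNeutral20.Cons
import Groth.Agent.Lib.PicGrp20.Group
import Groth.Agent.Lib.AbDual21.PicZero
import Groth.Agent.Lib.RigDesc22.Classes
import Groth.Agent.Lib.ValCritRes.Criterion
import Groth.Agent.Lib.RedSep.Basic
import Groth.Agent.Lib.VB17.Setup

/-!
# Properness of `Pic⁰` of a smooth proper morphism
-/

set_option autoImplicit false
set_option linter.style.haveILetI false
set_option backward.isDefEq.respectTransparency false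
set_option maxHeartbeats 2000000

universe u

open CategoryTheory CategoryTheory.Limits AlgebraicGeometry IsLocalRing
open MonoidalCategory CartesianMonoidalCategory
open scoped MonObj

namespace Groth.Agent.PicValProper20

attribute [local instance] M2.law

/-- A smooth proper geometrically connected scheme over a field is integral. -/
theorem isIntegral_fibre {L : Type u} [Field L] {Z : Scheme.{u}} (q : Z ⟶ Spec (CommRingCat.of L))
    [IsProper q] [Smooth q] [GeometricallyConnected q] : IsIntegral Z := by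
  letI : Z.Over (Spec (CommRingCat.of L)) := ⟨q⟩
  haveI : IsProper (Z ↘ Spec (CommRingCat.of L)) := ‹IsProper q›
  haveI : Smooth (Z ↘ Spec (CommRingCat.of L)) := ‹Smooth q›
  haveI : GeometricallyConnected (Z ↘ Spec (CommRingCat.of L)) := ‹GeometricallyConnected q›
  exact VB17.isIntegral_of_smooth (k := L)

variable {X S : Scheme.{u}} (f : X ⟶ S) [IsProper f] [Smooth f] [GeometricallyConnected f]
variable {P : Over S} {φ : ∀ T : Over S, PicF.Cl (PicF.XT f T) → (T ⟶ P)}
  (hP : AbDual.IsRelPicK Scheme.fppfPrecoverage f P φ)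

include hP in
/-- A point coming from a class over the generic point of a valuation ring extends. -/
theorem exists_lift_class (R : Type u) [CommRing R] [IsDomain R] [ValuationRing R]
    (L : Type u) [Field L] [Algebra R L] [IsFractionRing R L] (b : Spec (CommRingCat.of R) ⟶ S)
    {c : PicF.Cl (PicF.XT f (AbDual.ovr (Over.mk b) (Spec.map (CommRingCat.ofHom (algebraMap R L)))))}
    (hc : PicF.IsInvertibleCl c) :
    ∃ gR : Over.mk b ⟶ P,
      AbDual.ovrHom (Over.mk b) (Spec.map (CommRingCat.ofHom (algebraMap R L))) ≫ gR = φ _ c := by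
  let T : Over S := Over.mk b
  let u := Spec.map (CommRingCat.ofHom (algebraMap R L))
  let fK : PicF.XT f (AbDual.ovr T u) ⟶ Spec (CommRingCat.of L) := pullback.snd f (u ≫ b)
  haveI : IsProper fK := inferInstanceAs (IsProper (pullback.snd f (u ≫ b)))
  haveI : Smooth fK := inferInstanceAs (Smooth (pullback.snd f (u ≫ b)))
  haveI : GeometricallyConnected fK := inferInstanceAs (GeometricallyConnected (pullback.snd f (u ≫ b)))
  haveI := isIntegral_fibre fK
  haveI : Smooth (PicF.XTproj f T) := inferInstanceAs (Smooth (pullback.snd f b))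
  obtain ⟨c', hc', hcc⟩ := exists_lift (PicF.XTproj f T)
    (HilbBC25.isPullback_XTmap f (AbDual.ovrHom T u) : IsPullback _ fK _ _) c hc
  refine ⟨φ T c', ?_⟩
  rw [← hP.natural T _ (AbDual.ovrHom T u) c' hc', hcc]



include hP in
/-- Lifting in a closed subscheme of the Picard scheme along a valuation ring. -/
theorem exists_lift_valuationSubring {Z : Scheme.{u}} (i : Z ⟶ P.left) [IsClosedImmersion i]
    (K : Type u) [Field K] (A : ValuationSubring K) (y : Spec (CommRingCat.of A) ⟶ S)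
    (z : Spec (CommRingCat.of K) ⟶ Z) (hy : Spec.map (CommRingCat.ofHom A.subtype) ≫ y = z ≫ i ≫ P.hom) :
    ∃ l : Spec (CommRingCat.of A) ⟶ Z,
      Spec.map (CommRingCat.ofHom A.subtype) ≫ l = z ∧ l ≫ i ≫ P.hom = y := by
  let u := Spec.map (CommRingCat.ofHom A.subtype)
  let x := z ≫ i
  let gK : AbDual.ovr (Over.mk y) u ⟶ P := Over.homMk x (by simp [x, u, hy])
  obtain ⟨R₀, hR₀, hR₀'⟩ := hP.locallySurjective _ gK
  obtain ⟨κ, U, w, hw, hwR⟩ := RigDesc22.exists_family hR₀
  obtain ⟨hsurj, -⟩ := PicDesc21.mem_fppf_iff.1 hw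
  obtain ⟨k, x₁, -⟩ := hsurj (closedPoint K)
  let L := (U k).residueField x₁
  obtain ⟨e, he⟩ := Spec.map_surjective ((U k).fromSpecResidueField x₁ ≫ w k)
  obtain ⟨c, hc, hcφ⟩ := hR₀' (w k) (hwR k)
  obtain ⟨V, hVA⟩ := ValCritRes.exists_extension e.hom A
  subst hVA
  let ρ : V.comap e.hom →+* V :=
    (e.hom.comp (V.comap e.hom).subtype).codRestrict V.toSubring fun t => t.2
  let b' : Spec (CommRingCat.of V) ⟶ S := Spec.map (CommRingCat.ofHom ρ) ≫ y
  let uL := Spec.map (CommRingCat.ofHom (algebraMap V L))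
  have hsq : uL ≫ Spec.map (CommRingCat.ofHom ρ) = (U k).fromSpecResidueField x₁ ≫ w k ≫ u := by
    rw [← Category.assoc, ← he]
    show Spec.map _ ≫ Spec.map _ = Spec.map _ ≫ Spec.map _
    rw [← Spec.map_comp, ← Spec.map_comp]
    rfl
  let a : AbDual.ovr (Over.mk b') uL ⟶ AbDual.ovr (AbDual.ovr (Over.mk y) u) (w k) :=
    Over.homMk ((U k).fromSpecResidueField x₁) (by
      simp only [AbDual.ovr, Over.mk_hom, b']
      rw [reassoc_of% hsq])
  obtain ⟨gR, hgR⟩ := exists_lift_class f hP V L b' (PicLoc.isInvertibleCl_pullCl (PicF.XTmap f a) hc)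
  rw [hP.natural _ _ _ _ hc, hcφ] at hgR
  have hgR' := congrArg CommaMorphism.left hgR
  have hgen : uL ≫ gR.left = Spec.map e ≫ x := by
    rw [he]
    simpa [a, gK] using hgR'
  obtain ⟨l, ⟨hl₁, hl₂⟩, -⟩ := ValCritRes.existsUnique_descend e.hom V ρ (fun _ => rfl) gR.left x hgen
  have hly : l ≫ P.hom = y := by
    obtain ⟨l', -, huniq⟩ := ValCritRes.existsUnique_descend e.hom V ρ (fun _ => rfl) (gR.left ≫ P.hom) (x ≫ P.hom)
      ((Category.assoc _ _ _).symm.trans ((congrArg (· ≫ P.hom) hgen).trans (Category.assoc _ _ _)))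
    refine (huniq _ ⟨by rw [reassoc_of% hl₁], by rw [reassoc_of% hl₂]⟩).trans (huniq _ ⟨?_, ?_⟩).symm
    · rw [Over.w gR]; rfl
    · simp [x, ← hy]
  obtain ⟨lZ, hlZ⟩ := RedSepLib.exists_lift_of_range_subset l i (by
    rintro _ ⟨p, rfl⟩
    let g₀ : Spec (CommRingCat.of (V.comap e.hom)) := u (closedPoint K)
    have hcl : IsClosed (Set.range i) := i.isClosedEmbedding.isClosed_range
    have h1 : g₀ ⤳ p := by
      refine (PrimeSpectrum.le_iff_specializes _ _).1 ?_
      intro t ht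
      have : (V.comap e.hom).subtype t ∈ (closedPoint K).asIdeal := ht
      change (t : K) ∈ maximalIdeal K at this
      rw [maximalIdeal_eq_bot, Ideal.mem_bot] at this
      have : t = 0 := Subtype.ext this
      subst this; exact zero_mem _
    refine (h1.map l.continuous).mem_closed hcl ?_
    rw [← Scheme.Hom.comp_apply, hl₂]
    exact ⟨_, (Scheme.Hom.comp_apply _ _ _).symm⟩)
  refine ⟨lZ, ?_, by rw [reassoc_of% hlZ, hly]⟩
  rw [← cancel_mono i, Category.assoc, hlZ, hl₂]

include hP in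
/-- The existence part of the valuative criterion for a closed subscheme of the Picard scheme. -/
theorem existence {Z : Scheme.{u}} (i : Z ⟶ P.left) [IsClosedImmersion i] :
    ValuativeCriterion.Existence (i ≫ P.hom) := by
  rintro ⟨R, K, i₁, i₂, ⟨w⟩⟩
  have hinj : Function.Injective (algebraMap R K) := IsFractionRing.injective R K
  let Rs : ValuationSubring K := ValuationSubring.ofSubring (algebraMap R K).range (fun x => by
    rcases ValuationRing.isInteger_or_isInteger R x with ⟨r, hr⟩ | ⟨r, hr⟩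
    · exact Or.inl ⟨r, hr⟩
    · exact Or.inr ⟨r, hr⟩)
  let eR : R ≃+* Rs := RingEquiv.ofBijective (algebraMap R K).rangeRestrict
    ⟨fun a b hab => hinj (congrArg Subtype.val hab), (algebraMap R K).rangeRestrict_surjective⟩
  let i₂' : Spec (CommRingCat.of Rs) ⟶ S := Spec.map (CommRingCat.ofHom eR.toRingHom) ≫ i₂
  have hsub : Rs.subtype.comp eR.toRingHom = algebraMap R K := RingHom.ext fun x => rfl
  have w' : Spec.map (CommRingCat.ofHom Rs.subtype) ≫ i₂' = i₁ ≫ i ≫ P.hom := by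
    rw [w, ← hsub, CommRingCat.ofHom_comp, Spec.map_comp, Category.assoc]
  obtain ⟨l, hl₁, hl₂⟩ := exists_lift_valuationSubring f hP i K Rs i₂' i₁ w'
  refine ⟨⟨⟨Spec.map (CommRingCat.ofHom eR.symm.toRingHom) ≫ l, ?_, ?_⟩⟩⟩
  · rw [← Spec.map_comp_assoc, ← CommRingCat.ofHom_comp,
      show (algebraMap R K).comp eR.symm.toRingHom = Rs.subtype from
        RingHom.ext fun x => congrArg Subtype.val (eR.apply_symm_apply x)]
    exact hl₁
  · rw [Category.assoc, hl₂, ← Spec.map_comp_assoc, ← CommRingCat.ofHom_comp,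
      show eR.symm.toRingHom.comp eR.toRingHom = RingHom.id R from RingHom.ext eR.symm_apply_apply]
    simp

omit [IsProper f] [Smooth f] [GeometricallyConnected f] in
include hP in
/-- `Pic⁰` maps into the neutral components of the Picard scheme. -/
theorem mem_neutralSet {P₀ : Over S} {φ₀ : ∀ T : Over S, PicF.Cl (PicF.XT f T) → (T ⟶ P₀)}
    (hP₀ : AbDual.IsRelPicZeroK Scheme.fppfPrecoverage f P₀ φ₀) (j : P₀ ⟶ P)
    (hj : ∀ (T : Over S) (c : PicF.Cl (PicF.XT f T)), AbDual.IsPicZeroCl f T c → φ₀ T c ≫ j = φ T c)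
    (x₀ : P₀.left) : letI := PicGrp20.grpObj hP; j.left x₀ ∈ SGA3x.neutralSet P := by
  letI := PicGrp20.grpObj hP
  let Ω₀ := AlgebraicClosure (P₀.left.residueField x₀)
  let pt : Spec (CommRingCat.of Ω₀) ⟶ P₀.left :=
    Spec.map (CommRingCat.ofHom (algebraMap (P₀.left.residueField x₀) Ω₀)) ≫ P₀.left.fromSpecResidueField x₀
  have hpt : ∀ z, pt z = x₀ := fun z => by
    rw [Scheme.Hom.comp_apply]; exact Scheme.fromSpecResidueField_apply x₀ _
  let g : Over.mk (pt ≫ P₀.hom) ⟶ P₀ := Over.homMk pt rfl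
  obtain ⟨R₀, hR₀, hR₀'⟩ := hP₀.locallySurjective _ g
  obtain ⟨κ, U, w, hw, hwR⟩ := RigDesc22.exists_family hR₀
  obtain ⟨hsurj, -⟩ := PicDesc21.mem_fppf_iff.1 hw
  obtain ⟨k, x₁, -⟩ := hsurj (closedPoint Ω₀)
  obtain ⟨c, hc, hcφ⟩ := hR₀' (w k) (hwR k)
  let Ω := AlgebraicClosure ((U k).residueField x₁)
  let pt' : Spec (CommRingCat.of Ω) ⟶ U k :=
    Spec.map (CommRingCat.ofHom (algebraMap ((U k).residueField x₁) Ω)) ≫ (U k).fromSpecResidueField x₁
  let TU := AbDual.ovr (Over.mk (pt ≫ P₀.hom)) (w k)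
  obtain ⟨B, q, hB, hq₁, hq₂, m, hm, t, t₀, ht, ht₀, hmt, hmt₀⟩ :=
    (AbDual21.isPicZeroCl_iff (f := f)).1 hc |>.2 Ω pt'
  let T' : Over S := Over.mk (pt' ≫ TU.hom)
  let a : T' ⟶ TU := Over.homMk pt' rfl
  let TB : Over S := Over.mk (q ≫ T'.hom)
  let β : TB ⟶ T' := Over.homMk q rfl
  let θ : PicF.XT f T' ⟶ pullback (PicF.XTproj f TU) pt' :=
    pullback.lift (PicF.XTmap f a) (PicF.XTproj f T') (HilbBC25.XTmap_snd f a)
  have hθ : θ ≫ pullback.snd (PicF.XTproj f TU) pt' = PicF.XTproj f T' := pullback.lift_snd _ _ _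
  have hβ : (PicF.XTmap f β ≫ θ) ≫ pullback.snd (PicF.XTproj f TU) pt' = PicF.XTproj f TB ≫ q := by
    rw [Category.assoc, hθ]; exact HilbBC25.XTmap_snd f β
  let Λ : PicF.XT f TB ⟶ pullback (pullback.snd (PicF.XTproj f TU) pt') q :=
    pullback.lift (PicF.XTmap f β ≫ θ) (PicF.XTproj f TB) hβ
  let m' := PicF.pullCl Λ m
  have hm' : PicF.IsInvertibleCl m' := PicLoc.isInvertibleCl_pullCl Λ hm
  let ψ : TB ⟶ P := φ TB m'
  have hsec : ∀ (s : Spec (CommRingCat.of Ω) ⟶ B) (hs : s ≫ q = 𝟙 _),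
      (Over.homMk s (by simp [TB, reassoc_of% hs]) : T' ⟶ TB) ≫ ψ = φ T' (PicF.pullCl θ
        (PicF.pullCl (pullback.lift (𝟙 _) (pullback.snd (PicF.XTproj f TU) pt' ≫ s)
          (by rw [Category.id_comp]; exact ((Category.assoc _ _ _).trans ((congrArg (_ ≫ ·) hs).trans (Category.comp_id _))).symm)) m)) := by
    intro s hs
    let τ : T' ⟶ TB := Over.homMk s (by simp [TB, reassoc_of% hs])
    show τ ≫ ψ = _
    rw [← hP.natural TB T' τ m' hm']
    refine congrArg (φ T') ?_
    show PicF.pullCl (PicF.XTmap f τ) (PicF.pullCl Λ m) = _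
    rw [← PicLoc.pullCl_comp, ← PicLoc.pullCl_comp]
    refine congrArg (fun h => PicF.pullCl h m) ?_
    have h1 : τ ≫ β = 𝟙 T' := Over.OverMorphism.ext hs
    refine pullback.hom_ext ?_ ?_
    · rw [Category.assoc, pullback.lift_fst, ← Category.assoc, ← HilbBC25.XTmap_comp, h1, HilbBC25.XTmap_id,
        Category.id_comp, Category.assoc, pullback.lift_fst, Category.comp_id]
    · rw [Category.assoc, pullback.lift_snd, HilbBC25.XTmap_snd, Category.assoc, pullback.lift_snd, reassoc_of% hθ]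
      rfl
  have h1 := hsec t ht
  rw [hmt, ← PicLoc.pullCl_comp, pullback.lift_fst, hP.natural _ _ _ _ ((AbDual21.isPicZeroCl_iff (f := f)).1 hc).1,
    ← hj _ c hc, hcφ] at h1
  have h0 := hsec t₀ ht₀
  rw [hmt₀, PicDesc21.pullCl_structure, ← PicGrp.one_val] at h0
  have h0' : (Over.homMk t₀ (by simp [TB, reassoc_of% ht₀]) : T' ⟶ TB) ≫ ψ = toUnit T' ≫ η[P] := by
    rw [h0, PicGrp20.eta_eq, PicGrp20.comp_one' hP]
  let o : ↥(Spec (CommRingCat.of Ω)) := closedPoint Ω
  let s : S := T'.hom o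
  have heq : ((pt' ≫ w k) ≫ pt) ≫ j.left = t ≫ ψ.left := by
    have := congrArg CommaMorphism.left h1
    simp [a, g] at this ⊢
    exact this.symm
  have heq₀ : T'.hom ≫ η[P].left = t₀ ≫ ψ.left := (congrArg CommaMorphism.left h0').symm
  have e1 : j.left x₀ = ψ.left (t o) :=
    (congrArg j.left.base (hpt ((pt' ≫ w k) o))).symm.trans (congrArg (fun h => h o) heq)
  have e0 : η[P].left s = ψ.left (t₀ o) := congrArg (fun h => h o) heq₀
  have hsub : Set.range ψ.left ⊆ P.hom ⁻¹' {s} := by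
    rintro _ ⟨b, rfl⟩
    show P.hom (ψ.left b) = s
    rw [← Scheme.Hom.comp_apply, Over.w ψ]
    show T'.hom (q b) = _
    exact congrArg T'.hom.base (Subsingleton.elim (α := PrimeSpectrum Ω) _ _)
  haveI : PreconnectedSpace TB.left := hB.toPreconnectedSpace
  have hjs : P.hom (j.left x₀) = s := by rw [e1]; exact hsub ⟨_, rfl⟩
  rw [GrpNeutral20.mem_iff, hjs]
  exact (isPreconnected_range ψ.left.continuous).subset_connectedComponentIn ⟨_, e0.symm⟩ hsub ⟨_, e1.symm⟩

omit [IsProper f] [Smooth f] [GeometricallyConnected f] in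
include hP in
/-- `Pic⁰` is quasi-compact over the base. -/
theorem quasiCompact [LocallyOfFinitePresentation P.hom] [QuasiSeparated P.hom]
    {P₀ : Over S} {φ₀ : ∀ T : Over S, PicF.Cl (PicF.XT f T) → (T ⟶ P₀)}
    (hP₀ : AbDual.IsRelPicZeroK Scheme.fppfPrecoverage f P₀ φ₀) (j : P₀ ⟶ P) [IsClosedImmersion j.left]
    (hj : ∀ (T : Over S) (c : PicF.Cl (PicF.XT f T)), AbDual.IsPicZeroCl f T c → φ₀ T c ≫ j = φ T c) :
    QuasiCompact P₀.hom := by
  letI := PicGrp20.grpObj hP
  refine quasiCompact_iff_forall_isAffineOpen.2 fun U hU => ?_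
  haveI : IsAffine U.toScheme := hU
  let G := Red.bc U.ι P
  haveI : LocallyOfFinitePresentation G.hom :=
    inferInstanceAs (LocallyOfFinitePresentation (pullback.snd P.hom U.ι))
  obtain ⟨W, hW, hsub⟩ := GrpNeutral20.exists_isCompact_open G (GrpNeutral20.lft_fibres G)
  let q : G.left ⟶ P.left := pullback.fst P.hom U.ι
  have hWc : IsCompact (q '' (W : Set G.left)) := hW.image q.continuous
  have hqU : q '' (W : Set G.left) ⊆ P.hom ⁻¹' U := by
    rintro _ ⟨z, -, rfl⟩
    show P.hom (q z) ∈ U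
    rw [← Scheme.Hom.comp_apply, pullback.condition, Scheme.Hom.comp_apply]
    exact (pullback.snd P.hom U.ι z).2
  have hcl : IsClosed (Set.range j.left) := j.left.isClosedEmbedding.isClosed_range
  have hP₀U : ∀ x, P₀.hom x = P.hom (j.left x) := fun x => by rw [← Scheme.Hom.comp_apply, Over.w j]
  rw [j.left.isClosedEmbedding.isInducing.isCompact_iff]
  have himg : j.left '' (P₀.hom ⁻¹ᵁ U : Set P₀.left) = q '' (W : Set G.left) ∩ Set.range j.left := by
    refine Set.Subset.antisymm ?_ ?_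
    · rintro _ ⟨x, hx, rfl⟩
      refine ⟨?_, x, rfl⟩
      have hxU : P.hom (j.left x) ∈ U := hP₀U x ▸ hx
      obtain ⟨z, hz, -⟩ := Scheme.Pullback.exists_preimage_pullback (f := P.hom) (g := U.ι) (j.left x) ⟨_, hxU⟩ rfl
      refine ⟨z, hsub ?_, hz⟩
      rw [GrpNeutral20.neutralSet_bc]
      show q z ∈ SGA3x.neutralSet P
      rw [show q z = j.left x from hz]
      exact mem_neutralSet f hP hP₀ j hj x
    · rintro _ ⟨hy, x, rfl⟩
      exact ⟨x, show P₀.hom x ∈ U from hP₀U x ▸ hqU hy, rfl⟩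
  rw [himg]
  exact hWc.inter_right hcl

end Groth.Agent.PicValProper20
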