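import Groth.Agent.Lib.CubeField.DivSection
import Groth.Agent.Lib.TensorMod.PullTensor
import Groth.Agent.Lib.TensorMod.PicLaw

/-!
# Invertible modules on smooth integral varieties as differences of effective divisors
-/

set_option autoImplicit false
set_option linter.style.haveILetI false
set_option backward.isDefEq.respectTransparency false

universe u

open CategoryTheory Limits AlgebraicGeometry TopologicalSpace Opposite

namespace Groth.Agent.PicValProper20

open Amp
open Groth.Agent.M2 (tsec IsGenerator res)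

attribute [local instance] M2.law

variable {X : Scheme.{u}}

/-- A section generating at the generic point of an integral scheme is regular. -/
theorem isRegularSec_of_generic [IsIntegral X] {M : X.Modules} (hM : PicF.IsInvertible M)
    (s : Coh.structureModule X ⟶ M) (hη : genericPoint X ∈ CohB1.genLocus M s) : SecDiv.IsRegularSec s := by
  intro x r hr
  obtain ⟨U, e₀, a, hxU, -, hU, he₀, ha, hloc⟩ := Amp.exists_local hM s (x := x) (V := ⊤) trivial
  rw [← Amp.gm_res (le_top : U ≤ ⊤) hxU, ← ha, Amp.gm_smul, ← mul_smul] at hr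
  have h1 : r * X.presheaf.germ U x hxU a = 0 :=
    (Amp.gen_of_isGenerator he₀ hxU).1 (hr.trans (zero_smul (X.presheaf.stalk x) _).symm)
  refine (mul_eq_zero.mp h1).resolve_right fun ha0 => ?_
  have ha1 : a = 0 := germ_injective_of_isIntegral X x hxU (ha0.trans (map_zero _).symm)
  have hηU : genericPoint X ∈ U := ((genericPoint_spec X).mem_open_set_iff U.2).mpr ⟨x, trivial, hxU⟩
  have := hloc.le ⟨hη, hηU⟩
  rw [ha1, Scheme.basicOpen_zero] at this
  exact this

/-- An invertible module on a smooth integral variety is `[D]ⁿ [I]⁻¹` for effective Cartier ideals `I, D`. -/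
theorem exists_pair {k : Type u} [Field k] (p : X ⟶ Spec (CommRingCat.of k)) [Smooth p] [IsSeparated p]
    [QuasiCompact p] [IsIntegral X] (L : X.Modules) (hL : PicF.IsInvertible L) :
    ∃ (I D : X.IdealSheafData) (hI : BlowUp.IsEffCartierIdeal I) (hD : BlowUp.IsEffCartierIdeal D) (n : ℕ),
      PicGrp.cls L hL = PicGrp.cls (ClSub.idealMod D) (M2.isInvertible_idealMod D hD) ^ n *
        (PicGrp.cls (ClSub.idealMod I) (M2.isInvertible_idealMod I hI))⁻¹ := by
  haveI : IsLocallyNoetherian X := LocallyOfFiniteType.isLocallyNoetherian p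
  haveI : CompactSpace X := QuasiCompact.compactSpace_of_compactSpace p
  haveI : X.IsSeparated := ⟨by rw [← Limits.terminal.comp_from p]; infer_instance⟩
  haveI : IsNoetherian X := {}
  obtain ⟨U, e, hηU, -, hU, he⟩ := Amp.exists_isGenerator hL (x := genericPoint X) (V := ⊤) trivial
  obtain ⟨D, hD, hsupp⟩ := SecDiv.exists_effCartier_compl (fun V W hV hW => hV.inf hW) U hU
    (U.isOpen.dense ⟨_, hηU⟩) fun x _ => by
      haveI := SmoothReg17.isRegularLocalRing_stalk p x
      haveI := RegLoc.isDomain (X.presheaf.stalk x)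
      exact ⟨inferInstance, RegLoc.ufd_of_isRegularLocalRing _⟩
  obtain ⟨N, hN, ⟨eD⟩, s, hs⟩ := CubeField.exists_inverse_section_of_effCartier hD
  have hgl : CohB1.genLocus N s = U := Opens.ext (by rw [hs, hsupp, compl_compl])
  haveI : Coh.IsQCoh L := M2.isQCoh_of_isFinLocFree (M2.isFinLocFree_of_isInvertible hL)
  obtain ⟨n, hn⟩ := Amp.exists_extend_genLocus hN s L (res L hgl.le e)
  obtain ⟨t', ht'⟩ := hn n le_rfl
  let M := CohB1.tensorMod L (CohB1.tensorPow N n)
  have hNn : PicF.IsInvertible (CohB1.tensorPow N n) := Amp.isInvertible_tensorPow hN n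
  have hM : PicF.IsInvertible M := M2.isInvertible_tensor hL hNn
  let s' : Coh.structureModule X ⟶ M := M1.secHom t'
  have hη : genericPoint X ∈ CohB1.genLocus M s' := by
    have hηg : genericPoint X ∈ CohB1.genLocus N s := hgl.ge hηU
    rw [Amp.mem_genLocus_iff hM, Amp.gval_secHom,
      ← Amp.gm_res (le_top : CohB1.genLocus N s ≤ ⊤) hηg, ht']
    refine (Amp.gen_tsec_iff hL hNn hηg _ _).mpr ⟨?_, Amp.gen_pw hN hηg _ n ?_⟩
    · exact Amp.gen_of_isGenerator (Amp.isGenerator_res hgl.le he) hηg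
    · rw [Amp.gm_res]
      exact (Amp.mem_genLocus_iff hN s).1 hηg
  obtain ⟨N', hN', ⟨e'⟩⟩ := M2.exists_inverse hM
  obtain ⟨I, hI, ⟨j⟩, -⟩ := SecDiv.exists_ideal_of_section hM hN' e' s' (isRegularSec_of_generic hM s' hη)
  refine ⟨I, D, hI, hD, n, ?_⟩
  have h1 : PicGrp.cls M hM * PicGrp.cls (ClSub.idealMod I) (M2.isInvertible_idealMod I hI) = 1 :=
    (PicGrp.cls_mul_cls_eq_one_iff _ _).2 ⟨M2.tensorIso (Iso.refl M) j.symm ≪≫ e'⟩
  have h2 : PicGrp.cls (ClSub.idealMod D) (M2.isInvertible_idealMod D hD) * PicGrp.cls N hN = 1 :=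
    (PicGrp.cls_mul_cls_eq_one_iff _ _).2 ⟨eD⟩
  have h3 : PicGrp.cls M hM = PicGrp.cls L hL * PicGrp.cls N hN ^ n := by
    apply Subtype.ext
    rw [PicGrp.mul_val, PicGrp.cls_pow_val]
    rfl
  rw [h3] at h1
  rw [eq_inv_of_mul_eq_one_right h2, inv_pow] at h1
  rw [eq_inv_of_mul_eq_one_right h1, mul_comm (PicGrp.cls L hL)]
  simp

end Groth.Agent.PicValProper20
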